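import Groth.Prelude.Def_VecGrp
import Mathlib

/-! Stable submodules of a module with an action of a flat quasi-compact group scheme over an affine
base (SGA 3 VI_B 11.10). -/

set_option autoImplicit false
set_option linter.style.haveILetI false
universe u

open CategoryTheory Limits MonoidalCategory CartesianMonoidalCategory MonObj GrpObj AlgebraicGeometry
open scoped TensorProduct

namespace Groth.Agent.GModStable

variable {R : Type u} [CommRing R]

section Local

variable {B C : Type u} [CommRing B] [Algebra R B] [CommRing C] [Algebra R C]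
  {Q : Type u} [AddCommGroup Q] [Module R Q]

/-- The kernel of base change of a tensor along a localisation is torsion. -/
theorem exists_pow_smul_eq_zero [Algebra B C] [IsScalarTower R B C] (f : B) [IsLocalization.Away f C]
    (z : VecGrp.W R Q B) (hz : VecGrp.Wmap (IsScalarTower.toAlgHom R B C) z = 0) :
    ∃ n : ℕ, f ^ n • z = 0 := by
  haveI : IsLocalizedModule (Submonoid.powers f) (TensorProduct.mk B C (B ⊗[R] Q) 1) :=
    (isLocalizedModule_iff_isBaseChange (Submonoid.powers f) C _).2 (TensorProduct.isBaseChange B _ C)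
  have key : ∀ w : B ⊗[R] Q,
      TensorProduct.AlgebraTensorModule.cancelBaseChange R B C C Q ((1 : C) ⊗ₜ[B] w) = VecGrp.Wmap (IsScalarTower.toAlgHom R B C) w := by
    intro w
    induction w using TensorProduct.induction_on with
    | zero => simp
    | add p q hp hq => rw [TensorProduct.tmul_add, map_add, map_add, hp, hq]
    | tmul b q =>
      rw [TensorProduct.AlgebraTensorModule.cancelBaseChange_tmul, VecGrp.Wmap_tmul, Algebra.smul_def,
        _root_.mul_one]
      rfl
  have h0 : (TensorProduct.mk B C (B ⊗[R] Q) 1) z = 0 := by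
    apply (TensorProduct.AlgebraTensorModule.cancelBaseChange R B C C Q).injective
    rw [map_zero, ← hz, ← key]
    rfl
  obtain ⟨⟨c, n, rfl⟩, hc⟩ :=
    (IsLocalizedModule.eq_zero_iff (Submonoid.powers f) (TensorProduct.mk B C (B ⊗[R] Q) 1)).1 h0
  exact ⟨n, hc⟩

end Local

variable {G : Over (Spec (CommRingCat.of R))}

/-- Finitely many flat affine charts covering `G`. -/
structure Charts (G : Over (Spec (CommRingCat.of R))) where
  /-- the index type -/
  J : Type u
  finite : Finite J
  /-- the rings of the charts -/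
  A : J → Type u
  [ring : ∀ a, CommRing (A a)]
  [alg : ∀ a, Algebra R (A a)]
  flat : ∀ a, Module.Flat R (A a)
  /-- the charts -/
  u : ∀ a, VecGrp.pt R (A a) ⟶ G
  isOpen : ∀ a, IsOpenImmersion (u a).left
  covers : ∀ x : G.left, ∃ a, x ∈ Set.range (u a).left

attribute [instance] Charts.ring Charts.alg

theorem exists_charts (G : Over (Spec (CommRingCat.of R))) [Flat G.hom] [QuasiCompact G.hom] :
    Nonempty (Charts G) := by
  haveI : CompactSpace G.left := QuasiCompact.compactSpace_of_compactSpace G.hom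
  let 𝒰 := G.left.affineCover.finiteSubcover
  let j := fun a : 𝒰.I₀ => (𝒰.X a).isoSpec.inv ≫ 𝒰.f a
  letI alg : ∀ a, Algebra R Γ(𝒰.X a, ⊤) := fun a => (Spec.preimage (j a ≫ G.hom)).hom.toAlgebra
  refine ⟨{ J := 𝒰.I₀, finite := inferInstance, A := fun a => Γ(𝒰.X a, ⊤), alg := alg, flat := fun a => ?_,
            u := fun a => Over.homMk (j a) (Spec.map_preimage _).symm,
            isOpen := fun a => inferInstanceAs (IsOpenImmersion (j a)), covers := fun x => ?_ }⟩
  · haveI : Flat (Spec.map (Spec.preimage (j a ≫ G.hom))) := by rw [Spec.map_preimage]; infer_instance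
    exact Flat.SpecMap_iff.1 (inferInstance : Flat (Spec.map (Spec.preimage (j a ≫ G.hom))))
  · obtain ⟨y, hy⟩ := 𝒰.covers x
    exact ⟨_, (𝒰.X (𝒰.idx x)).isoSpec.hom y, by
      show (j _) _ = x
      simpa [j, ← Scheme.Hom.comp_apply] using hy⟩

variable (cv : Charts G)

/-- Every point is locally in a chart. -/
theorem eq_zero_of_charts {B : Type u} [CommRing B] [Algebra R B] (g : VecGrp.pt R B ⟶ G)
    {Q : Type u} [AddCommGroup Q] [Module R Q] (z : VecGrp.W R Q B)
    (h : ∀ (C : Type u) [CommRing C] [Algebra R C] (φ : B →ₐ[R] C) (a : cv.J) (ψ : cv.A a →ₐ[R] C),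
      VecGrp.ptMap φ ≫ g = VecGrp.ptMap ψ ≫ cv.u a → VecGrp.Wmap φ z = 0) : z = 0 := by
  suffices Ideal.torsionOf B (VecGrp.W R Q B) z = ⊤ by
    have h1 : (1 : B) ∈ Ideal.torsionOf B (VecGrp.W R Q B) z := this ▸ Submodule.mem_top
    rw [Ideal.mem_torsionOf_iff, one_smul] at h1
    exact h1
  by_contra hne
  obtain ⟨P, hP, hle⟩ := Ideal.exists_le_maximal _ hne
  let p : PrimeSpectrum B := ⟨P, hP.isPrime⟩
  obtain ⟨a, ha⟩ := cv.covers (g.left p)
  haveI := cv.isOpen a
  obtain ⟨_, ⟨f, rfl⟩, hpf, hfU⟩ := PrimeSpectrum.isTopologicalBasis_basic_opens.exists_subset_of_mem_open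
    (a := p) (u := g.left ⁻¹' Set.range (cv.u a).left) ha
    ((cv.u a).left.isOpenEmbedding.isOpen_range.preimage g.left.continuous)
  let C := Localization.Away f
  let φ : B →ₐ[R] C := IsScalarTower.toAlgHom R B C
  have hsub : Set.range (VecGrp.ptMap φ ≫ g).left ⊆ Set.range (cv.u a).left := by
    rintro _ ⟨q, rfl⟩
    refine hfU (a := PrimeSpectrum.comap (algebraMap B C) q) ?_
    have := PrimeSpectrum.localization_away_comap_range C f
    show _ ∈ (PrimeSpectrum.basicOpen f : Set (PrimeSpectrum B))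
    rw [← this]
    exact Set.mem_range_self q
  let l := IsOpenImmersion.lift (cv.u a).left (VecGrp.ptMap φ ≫ g).left hsub
  have hl : l ≫ (cv.u a).left = (VecGrp.ptMap φ ≫ g).left := IsOpenImmersion.lift_fac _ _ _
  have hR : Spec.preimage l = CommRingCat.ofHom ((Spec.preimage l).hom) := rfl
  have hcomm : (Spec.preimage l).hom.comp (algebraMap R (cv.A a)) = algebraMap R C := by
    have h1 : l ≫ (VecGrp.pt R (cv.A a)).hom = (VecGrp.pt R C).hom := by
      rw [← Over.w (cv.u a), reassoc_of% hl, Over.w]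
    have h2 : CommRingCat.ofHom (algebraMap R (cv.A a)) ≫ Spec.preimage l = CommRingCat.ofHom (algebraMap R C) :=
      Spec.map_injective (by rw [Spec.map_comp, Spec.map_preimage]; exact h1)
    exact congrArg CommRingCat.Hom.hom h2
  let ψ : cv.A a →ₐ[R] C := { (Spec.preimage l).hom with commutes' := fun r => RingHom.congr_fun hcomm r }
  have hψ : VecGrp.ptMap φ ≫ g = VecGrp.ptMap ψ ≫ cv.u a := Over.OverMorphism.ext (by
    rw [← hl, Over.comp_left, VecGrp.ptMap_left]
    congr 1
    exact (Spec.map_preimage l).symm)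
  obtain ⟨n, hn⟩ := exists_pow_smul_eq_zero f z (h C φ a ψ hψ)
  exact hpf (hP.isPrime.mem_of_pow_mem n (hle (Ideal.mem_torsionOf_iff z _ |>.2 hn)))

variable [GrpObj G] {E : Type u} [AddCommGroup E] [Module R E] (m : VecGrp.GMod G E)

/-- The action on `1 ⊗ x`. -/
noncomputable def act₁ {B : Type u} [CommRing B] [Algebra R B] (g : VecGrp.pt R B ⟶ G) : E →ₗ[R] B ⊗[R] E :=
  ((m.ρ B g).toLinearMap.restrictScalars R).comp (TensorProduct.mk R B E 1)

theorem act₁_apply {B : Type u} [CommRing B] [Algebra R B] (g : VecGrp.pt R B ⟶ G) (x : E) :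
    act₁ m g x = m.ρ B g ((1 : B) ⊗ₜ[R] x) := rfl

theorem Wmap_act₁ {B C : Type u} [CommRing B] [Algebra R B] [CommRing C] [Algebra R C] (φ : B →ₐ[R] C)
    (g : VecGrp.pt R B ⟶ G) (x : E) : VecGrp.Wmap φ (act₁ m g x) = act₁ m (VecGrp.ptMap φ ≫ g) x := by
  rw [act₁_apply, act₁_apply, m.naturality φ g, VecGrp.Wmap_tmul, map_one]

/-- A condition holding on the charts holds at every point. -/
theorem baseChange_act₁_eq_zero {Q : Type u} [AddCommGroup Q] [Module R Q] (q : E →ₗ[R] Q) (x : E)
    (h : ∀ a, q.baseChange (cv.A a) (act₁ m (cv.u a) x) = 0)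
    {B : Type u} [CommRing B] [Algebra R B] (g : VecGrp.pt R B ⟶ G) :
    q.baseChange B (act₁ m g x) = 0 := by
  refine eq_zero_of_charts cv g _ fun C _ _ φ a ψ hψ => ?_
  rw [VecGrp.baseChange_natural, Wmap_act₁, hψ, ← Wmap_act₁, ← VecGrp.baseChange_natural, h a, map_zero]

theorem baseChange_eq_zero_iff_mem_range (N : Submodule R E) {B : Type u} [CommRing B] [Algebra R B]
    (z : B ⊗[R] E) : N.mkQ.baseChange B z = 0 ↔ z ∈ LinearMap.range (N.subtype.baseChange B) := by
  have he : Function.Exact (N.subtype.lTensor B) (N.mkQ.lTensor B) :=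
    lTensor_exact B (LinearMap.exact_subtype_mkQ N) N.mkQ_surjective
  exact he z

/-- The elements whose orbit lies in `N`. -/
noncomputable def core (N : Submodule R E) : Submodule R E :=
  ⨅ a, LinearMap.ker ((N.mkQ.baseChange (cv.A a)).restrictScalars R ∘ₗ act₁ m (cv.u a))

theorem mem_core {N : Submodule R E} {x : E} :
    x ∈ core cv m N ↔ ∀ a, N.mkQ.baseChange (cv.A a) (act₁ m (cv.u a) x) = 0 := by
  simp [core, Submodule.mem_iInf]

theorem core_le (N : Submodule R E) : core cv m N ≤ N := by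
  intro x hx
  have h := baseChange_act₁_eq_zero cv m N.mkQ x (mem_core cv m |>.1 hx) (1 : VecGrp.pt R R ⟶ G)
  rw [act₁_apply, map_one] at h
  have h' : (1 : R) ⊗ₜ[R] N.mkQ x = 0 := h
  have h'' := congrArg (TensorProduct.lid R (E ⧸ N)) h'
  rw [TensorProduct.lid_tmul, one_smul, map_zero] at h''
  exact (Submodule.Quotient.mk_eq_zero N).1 h''

/-- The core is stable. -/
theorem core_stable (N : Submodule R E) {x : E} (hx : x ∈ core cv m N) {B : Type u} [CommRing B]
    [Algebra R B] (g : VecGrp.pt R B ⟶ G) :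
    m.ρ B g ((1 : B) ⊗ₜ[R] x) ∈ LinearMap.range ((core cv m N).subtype.baseChange B) := by
  rw [← baseChange_eq_zero_iff_mem_range]
  refine baseChange_act₁_eq_zero cv m _ x (fun b => ?_) g
  set K := core cv m N
  set z := act₁ m (cv.u b) x
  haveI := cv.flat b
  haveI := cv.finite
  classical
  haveI : Fintype cv.J := Fintype.ofFinite _
  let L : E →ₗ[R] ∀ a, cv.A a ⊗[R] (E ⧸ N) :=
    LinearMap.pi fun a => (N.mkQ.baseChange (cv.A a)).restrictScalars R ∘ₗ act₁ m (cv.u a)
  have hker : LinearMap.ker L = K := by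
    rw [LinearMap.ker_pi]; rfl
  have hex : Function.Exact (K.subtype.lTensor (cv.A b)) (L.lTensor (cv.A b)) :=
    Module.Flat.lTensor_exact (cv.A b) (LinearMap.exact_iff.2 (by rw [hker, Submodule.range_subtype]))
  refine (baseChange_eq_zero_iff_mem_range K z).2 ((hex z).1 ?_)
  refine (TensorProduct.piRight R R (cv.A b) fun a => cv.A a ⊗[R] (E ⧸ N)).injective ?_
  rw [map_zero]
  funext a
  have key : ∀ w : cv.A b ⊗[R] E,
      (TensorProduct.piRight R R (cv.A b) fun a => cv.A a ⊗[R] (E ⧸ N)) (L.lTensor (cv.A b) w) a =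
        (((N.mkQ.baseChange (cv.A a)).restrictScalars R ∘ₗ act₁ m (cv.u a)).lTensor (cv.A b)) w := by
    intro w
    induction w using TensorProduct.induction_on with
    | zero => simp
    | add p q hp hq => simp only [map_add, Pi.add_apply, hp, hq]
    | tmul c y => simp [L]
  rw [key, Pi.zero_apply]
  let C := cv.A b ⊗[R] cv.A a
  let iB : cv.A b →ₐ[R] C := Algebra.TensorProduct.includeLeft
  let iA : cv.A a →ₐ[R] C := Algebra.TensorProduct.includeRight
  refine (TensorProduct.assoc R (cv.A b) (cv.A a) (E ⧸ N)).symm.injective ?_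
  rw [map_zero]
  have key' : ∀ w : cv.A b ⊗[R] E,
      (TensorProduct.assoc R (cv.A b) (cv.A a) (E ⧸ N)).symm
        ((((N.mkQ.baseChange (cv.A a)).restrictScalars R ∘ₗ act₁ m (cv.u a)).lTensor (cv.A b)) w) =
      N.mkQ.baseChange C (m.ρ C (VecGrp.ptMap iA ≫ cv.u a) (VecGrp.Wmap iB w)) := by
    intro w
    induction w using TensorProduct.induction_on with
    | zero => simp
    | add p q hp hq => simp only [map_add, hp, hq]
    | tmul c y =>
      have e1 : ∀ v : cv.A a ⊗[R] (E ⧸ N), (TensorProduct.assoc R (cv.A b) (cv.A a) (E ⧸ N)).symm (c ⊗ₜ[R] v)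
          = iB c • VecGrp.Wmap iA v := by
        intro v
        induction v using TensorProduct.induction_on with
        | zero => simp
        | add p q hp hq => simp only [TensorProduct.tmul_add, map_add, smul_add, hp, hq]
        | tmul d e =>
          rw [TensorProduct.assoc_symm_tmul, VecGrp.Wmap_tmul, TensorProduct.smul_tmul', smul_eq_mul]
          simp [iA, iB, C, Algebra.TensorProduct.tmul_mul_tmul]
      rw [LinearMap.lTensor_tmul, e1, LinearMap.comp_apply, LinearMap.restrictScalars_apply,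
        VecGrp.baseChange_natural, Wmap_act₁, act₁_apply, ← LinearMap.map_smul, ← LinearEquiv.map_smul,
        TensorProduct.smul_tmul', smul_eq_mul, _root_.mul_one, VecGrp.Wmap_tmul]
  rw [key', show z = act₁ m (cv.u b) x from rfl, Wmap_act₁, act₁_apply]
  have hmul : m.ρ C (VecGrp.ptMap iA ≫ cv.u a) (m.ρ C (VecGrp.ptMap iB ≫ cv.u b) ((1 : C) ⊗ₜ[R] x)) =
      act₁ m ((VecGrp.ptMap iA ≫ cv.u a) * (VecGrp.ptMap iB ≫ cv.u b)) x := by
    rw [act₁_apply, map_mul]; rfl
  rw [hmul]
  exact baseChange_act₁_eq_zero cv m N.mkQ x (mem_core cv m |>.1 hx) _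

theorem exists_fg_coeff {B : Type u} [CommRing B] [Algebra R B] (z : B ⊗[R] E) :
    ∃ N : Submodule R E, N.FG ∧ ∀ N' : Submodule R E, N ≤ N' → N'.mkQ.baseChange B z = 0 := by
  induction z using TensorProduct.induction_on with
  | zero => exact ⟨⊥, Submodule.fg_bot, fun _ _ => map_zero _⟩
  | tmul b e =>
    refine ⟨Submodule.span R {e}, Submodule.fg_span_singleton e, fun N' h => ?_⟩
    rw [LinearMap.baseChange_tmul, Submodule.mkQ_apply,
      (Submodule.Quotient.mk_eq_zero N').2 (h (Submodule.subset_span rfl)), TensorProduct.tmul_zero]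
  | add p q hp hq =>
    obtain ⟨P, hP, hP'⟩ := hp
    obtain ⟨Q, hQ, hQ'⟩ := hq
    exact ⟨P ⊔ Q, hP.sup hQ, fun N' h => by
      rw [map_add, hP' N' (le_sup_left.trans h), hQ' N' (le_sup_right.trans h), add_zero]⟩

theorem exists_stable [IsNoetherianRing R] [Flat G.hom] [QuasiCompact G.hom] (M : Submodule R E)
    (hM : M.FG) : ∃ N : Submodule R E, M ≤ N ∧ N.FG ∧
      ∀ (B : Type u) [CommRing B] [Algebra R B] (g : VecGrp.pt R B ⟶ G) (x : E), x ∈ N →
        m.ρ B g ((1 : B) ⊗ₜ[R] x) ∈ LinearMap.range (N.subtype.baseChange B) := by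
  classical
  obtain ⟨cv⟩ := exists_charts G
  haveI := cv.finite
  haveI : Fintype cv.J := Fintype.ofFinite _
  obtain ⟨s, rfl⟩ := hM
  choose P hP hP' using fun (p : cv.J × s) => exists_fg_coeff (act₁ m (cv.u p.1) (p.2 : E))
  let N : Submodule R E := Submodule.span R s ⊔ Finset.univ.sup P
  have hN : N.FG := (Submodule.fg_span s.finite_toSet).sup
    (Finset.sup_induction (p := Submodule.FG) Submodule.fg_bot (fun _ ha _ hb => ha.sup hb) fun p _ => hP p)
  refine ⟨core cv m N, ?_, ?_, fun B _ _ g x hx => core_stable cv m N hx g⟩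
  · rw [Submodule.span_le]
    intro x hx
    refine (mem_core cv m).2 fun a => hP' (a, ⟨x, hx⟩) N ?_
    exact (Finset.le_sup (f := P) (Finset.mem_univ _)).trans le_sup_right
  · haveI : IsNoetherian R N := isNoetherian_of_fg_of_noetherian N hN
    exact Submodule.FG.of_le hN (core_le cv m N)

end Groth.Agent.GModStable
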