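import Groth.Agent.GModStable.Basic

/-! Stable submodules over an arbitrary base when the functions of the group form a projective
module. -/

set_option autoImplicit false
set_option linter.style.haveILetI false
universe u

open CategoryTheory Limits MonoidalCategory CartesianMonoidalCategory MonObj GrpObj AlgebraicGeometry
open scoped TensorProduct

namespace Groth.Agent.GModStable

variable {R : Type u} [CommRing R] {G : Over (Spec (CommRingCat.of R))}

/-- The functions on `G`. -/
abbrev Fn (G : Over (Spec (CommRingCat.of R))) : Type u := Γ(G.left, ⊤)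

noncomputable instance instAlgebraFn : Algebra R (Fn G) :=
  (((Scheme.ΓSpecIso (CommRingCat.of R)).inv ≫ G.hom.appTop).hom).toAlgebra

/-- The value of functions at a point. -/
noncomputable def pullFn {B : Type u} [CommRing B] [Algebra R B] (g : VecGrp.pt R B ⟶ G) : Fn G →ₐ[R] B :=
  AlgHom.mk ((g.left.appTop ≫ (Scheme.ΓSpecIso (CommRingCat.of B)).hom).hom) fun c => by
    show (Scheme.ΓSpecIso (CommRingCat.of B)).hom (g.left.appTop (G.hom.appTop ((Scheme.ΓSpecIso (CommRingCat.of R)).inv c))) = _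
    rw [← CommRingCat.comp_apply G.hom.appTop g.left.appTop, ← Scheme.Hom.comp_appTop, Over.w g]
    show (Scheme.ΓSpecIso (CommRingCat.of B)).hom
      ((Spec.map (CommRingCat.ofHom (algebraMap R B))).appTop ((Scheme.ΓSpecIso (CommRingCat.of R)).inv c)) = _
    rw [← CommRingCat.comp_apply (Spec.map (CommRingCat.ofHom (algebraMap R B))).appTop, Scheme.ΓSpecIso_naturality,
      CommRingCat.comp_apply, ← CommRingCat.comp_apply _ (Scheme.ΓSpecIso (CommRingCat.of R)).hom, Iso.inv_hom_id]
    rfl

theorem pullFn_ptMap {B B' : Type u} [CommRing B] [Algebra R B] [CommRing B'] [Algebra R B'] (φ : B →ₐ[R] B')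
    (g : VecGrp.pt R B ⟶ G) (f : Fn G) : pullFn (VecGrp.ptMap φ ≫ g) f = φ (pullFn g f) := by
  show (Scheme.ΓSpecIso (CommRingCat.of B')).hom ((VecGrp.ptMap φ ≫ g).left.appTop f) =
    φ ((Scheme.ΓSpecIso (CommRingCat.of B)).hom (g.left.appTop f))
  rw [Over.comp_left, Scheme.Hom.comp_appTop, CommRingCat.comp_apply]
  show (Scheme.ΓSpecIso (CommRingCat.of B')).hom
    ((Spec.map (CommRingCat.ofHom φ.toRingHom)).appTop (g.left.appTop f)) = _
  rw [← CommRingCat.comp_apply, Scheme.ΓSpecIso_naturality]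
  rfl

/-- The functions on an affine open as an algebra over the base. -/
noncomputable abbrev algOpen {U : G.left.Opens} (hU : IsAffineOpen U) : Algebra R Γ(G.left, U) :=
  (Spec.preimage (hU.fromSpec ≫ G.hom)).hom.toAlgebra

/-- The point given by an affine open. -/
noncomputable def openPt {U : G.left.Opens} (hU : IsAffineOpen U) :
    letI := algOpen hU; VecGrp.pt R Γ(G.left, U) ⟶ G :=
  letI := algOpen hU
  Over.homMk hU.fromSpec (Spec.map_preimage _).symm

theorem pullFn_openPt {U : G.left.Opens} (hU : IsAffineOpen U) (f : Fn G) :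
    letI := algOpen hU; pullFn (openPt hU) f = G.left.presheaf.map (homOfLE le_top).op f := by
  show (Scheme.ΓSpecIso Γ(G.left, U)).hom (hU.fromSpec.appTop f) = _
  rw [← CommRingCat.comp_apply]
  congr 1
  congr 1
  have h := congrArg (fun p => Scheme.Hom.appTop p ≫ (Scheme.ΓSpecIso Γ(G.left, U)).hom) hU.fromSpec_toSpecΓ
  simp only [Scheme.Hom.comp_appTop, Scheme.toSpecΓ_appTop, Scheme.ΓSpecIso_naturality, Category.assoc] at h
  exact (cancel_epi _).mp h

/-- Restriction to a smaller affine open as an algebra map. -/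
noncomputable def resAlg {U V : G.left.Opens} (hU : IsAffineOpen U) (hV : IsAffineOpen V) (h : V ≤ U) :
    letI := algOpen hU; letI := algOpen hV; Γ(G.left, U) →ₐ[R] Γ(G.left, V) :=
  letI := algOpen hU
  letI := algOpen hV
  AlgHom.mk (G.left.presheaf.map (homOfLE h).op).hom fun c => by
    have e : Spec.preimage (hU.fromSpec ≫ G.hom) ≫ G.left.presheaf.map (homOfLE h).op =
        Spec.preimage (hV.fromSpec ≫ G.hom) := by
      apply Spec.map_injective
      rw [Spec.map_comp, Spec.map_preimage, Spec.map_preimage, ← Category.assoc, hU.map_fromSpec hV]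
    exact congr($e c)

theorem ptMap_resAlg {U V : G.left.Opens} (hU : IsAffineOpen U) (hV : IsAffineOpen V) (h : V ≤ U) :
    letI := algOpen hU; letI := algOpen hV; VecGrp.ptMap (resAlg hU hV h) ≫ openPt hU = openPt hV := by
  exact Over.OverMorphism.ext (hU.map_fromSpec hV (homOfLE h).op)

theorem flat_algOpen [Flat G.hom] {U : G.left.Opens} (hU : IsAffineOpen U) :
    letI := algOpen hU; Module.Flat R Γ(G.left, U) := by
  haveI : Flat (Spec.map (Spec.preimage (hU.fromSpec ≫ G.hom))) := by rw [Spec.map_preimage]; infer_instance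
  exact Flat.SpecMap_iff.1 (inferInstance : Flat (Spec.map (Spec.preimage (hU.fromSpec ≫ G.hom))))

/-- Finitely many affine opens covering `G`, with finitely many covering their intersections. -/
structure Cover (G : Over (Spec (CommRingCat.of R))) where
  /-- the opens -/
  J : Type u
  finite : Finite J
  U : J → G.left.Opens
  affine : ∀ a, IsAffineOpen (U a)
  covers : ∀ x : G.left, ∃ a, x ∈ U a
  /-- opens covering the intersections -/
  K : Type u
  finiteK : Finite K
  fst : K → J
  snd : K → J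
  V : K → G.left.Opens
  affineV : ∀ k, IsAffineOpen (V k)
  le_fst : ∀ k, V k ≤ U (fst k)
  le_snd : ∀ k, V k ≤ U (snd k)
  coversV : ∀ a b, ∀ x ∈ U a ⊓ U b, ∃ k, fst k = a ∧ snd k = b ∧ x ∈ V k

theorem exists_cover (G : Over (Spec (CommRingCat.of R))) [QuasiCompact G.hom] [QuasiSeparated G.hom] :
    Nonempty (Cover G) := by
  classical
  haveI : CompactSpace G.left := QuasiCompact.compactSpace_of_compactSpace G.hom
  haveI : QuasiSeparatedSpace G.left := quasiSeparatedSpace_of_quasiSeparated G.hom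
  obtain ⟨s, hs, e⟩ := isCompact_and_isOpen_iff_finite_and_eq_biUnion_affineOpens.1
    (show IsCompact (Set.univ : Set G.left) ∧ IsOpen (Set.univ : Set G.left) from ⟨isCompact_univ, isOpen_univ⟩)
  have hcpt : ∀ p : s × s, IsCompact ((p.1.1.1 : Set G.left) ∩ p.2.1.1) := fun p =>
    (QuasiSeparatedSpace.inter_isCompact _ _ p.1.1.1.2 p.1.1.2.isCompact p.2.1.1.2 p.2.1.2.isCompact)
  choose t ht et using fun p : s × s => isCompact_and_isOpen_iff_finite_and_eq_biUnion_affineOpens.1
    (show IsCompact ((p.1.1.1 : Set G.left) ∩ p.2.1.1) ∧ IsOpen ((p.1.1.1 : Set G.left) ∩ p.2.1.1) from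
      ⟨hcpt p, p.1.1.1.2.inter p.2.1.1.2⟩)
  haveI : Finite s := hs.to_subtype
  haveI : ∀ p, Finite (t p) := fun p => (ht p).to_subtype
  have hle : ∀ (k : Σ p : s × s, t p), (k.2.1.1 : Set G.left) ⊆ (k.1.1.1.1 : Set G.left) ∩ k.1.2.1.1 := fun k => by
    rw [et k.1]; exact fun x hx => Set.mem_iUnion₂.2 ⟨k.2.1, k.2.2, hx⟩
  refine ⟨{ J := s, finite := inferInstance, U := fun a => a.1.1, affine := fun a => a.1.2,
            covers := fun x => ?_, K := Σ p : s × s, t p, finiteK := inferInstance,
            fst := fun k => k.1.1, snd := fun k => k.1.2, V := fun k => k.2.1.1,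
            affineV := fun k => k.2.1.2, le_fst := fun k x hx => (hle k hx).1,
            le_snd := fun k x hx => (hle k hx).2, coversV := fun a b x hx => ?_ }⟩
  · obtain ⟨a, ha, hxa⟩ := Set.mem_iUnion₂.1 (e ▸ Set.mem_univ x : x ∈ ⋃ i ∈ s, (i.1 : Set G.left))
    exact ⟨⟨a, ha⟩, hxa⟩
  · obtain ⟨c, hc, hxc⟩ := Set.mem_iUnion₂.1 (et (a, b) ▸ hx : x ∈ ⋃ i ∈ t (a, b), (i.1 : Set G.left))
    exact ⟨⟨(a, b), ⟨c, hc⟩⟩, rfl, rfl, hxc⟩

variable (cv : Cover G)

noncomputable instance (a : cv.J) : Algebra R Γ(G.left, cv.U a) := algOpen (cv.affine a)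

noncomputable instance (k : cv.K) : Algebra R Γ(G.left, cv.V k) := algOpen (cv.affineV k)

/-- The charts underlying a cover. -/
noncomputable def Cover.charts [Flat G.hom] : Charts G where
  J := cv.J
  finite := cv.finite
  A a := Γ(G.left, cv.U a)
  flat a := flat_algOpen (cv.affine a)
  u a := openPt (cv.affine a)
  isOpen a := inferInstanceAs (IsOpenImmersion (cv.affine a).fromSpec)
  covers x := by
    obtain ⟨a, ha⟩ := cv.covers x
    refine ⟨a, ?_⟩
    show x ∈ Set.range (cv.affine a).fromSpec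
    rw [(cv.affine a).range_fromSpec]
    exact ha

/-- Restrictions of a function to the charts. -/
noncomputable def d₀ : Fn G →ₗ[R] ∀ a, Γ(G.left, cv.U a) :=
  LinearMap.pi fun a => (pullFn (openPt (cv.affine a))).toLinearMap

/-- Differences on the overlaps. -/
noncomputable def d₁ : (∀ a, Γ(G.left, cv.U a)) →ₗ[R] ∀ k, Γ(G.left, cv.V k) :=
  LinearMap.pi fun k =>
    (resAlg (cv.affine (cv.fst k)) (cv.affineV k) (cv.le_fst k)).toLinearMap ∘ₗ LinearMap.proj (cv.fst k) -
      (resAlg (cv.affine (cv.snd k)) (cv.affineV k) (cv.le_snd k)).toLinearMap ∘ₗ LinearMap.proj (cv.snd k)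

theorem d₀_injective : Function.Injective (d₀ cv) := by
  intro f g h
  refine G.left.sheaf.eq_of_locally_eq' cv.U ⊤ (fun a => homOfLE le_top) (fun x _ => ?_) f g fun a => ?_
  · obtain ⟨a, ha⟩ := cv.covers x
    exact TopologicalSpace.Opens.mem_iSup.2 ⟨a, ha⟩
  · have := congrFun h a
    simp only [d₀, LinearMap.pi_apply, AlgHom.toLinearMap_apply, pullFn_openPt] at this
    exact this

theorem exact_d₀_d₁ : Function.Exact (d₀ cv) (d₁ cv) := by
  intro s
  refine ⟨fun h => ?_, ?_⟩
  · have hag : TopCat.Presheaf.IsCompatible G.left.sheaf.1 cv.U s := fun a b => by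
      refine G.left.sheaf.eq_of_locally_eq' (fun k : {k : cv.K // cv.fst k = a ∧ cv.snd k = b} => cv.V k.1)
        _ (fun k => homOfLE (le_inf (le_of_le_of_eq (cv.le_fst k.1) (congrArg cv.U k.2.1)) (le_of_le_of_eq (cv.le_snd k.1) (congrArg cv.U k.2.2)))) (fun x hx => ?_) _ _
        fun ⟨k, h1, h2⟩ => ?_
      · obtain ⟨k, h1, h2, hk⟩ := cv.coversV a b x hx
        exact TopologicalSpace.Opens.mem_iSup.2 ⟨⟨k, h1, h2⟩, hk⟩
      · subst h1 h2
        have hk := congrFun h k
        simp only [d₁, LinearMap.pi_apply, LinearMap.sub_apply, LinearMap.comp_apply, LinearMap.proj_apply,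
          AlgHom.toLinearMap_apply, Pi.zero_apply, sub_eq_zero] at hk
        show G.left.presheaf.map _ (G.left.presheaf.map _ (s (cv.fst k))) =
          G.left.presheaf.map _ (G.left.presheaf.map _ (s (cv.snd k)))
        rw [← CommRingCat.comp_apply, ← CommRingCat.comp_apply, ← Functor.map_comp, ← Functor.map_comp]
        exact hk
    obtain ⟨f, hf, -⟩ := G.left.sheaf.existsUnique_gluing' cv.U ⊤ (fun a => homOfLE le_top) (fun x _ => by
      obtain ⟨a, ha⟩ := cv.covers x
      exact TopologicalSpace.Opens.mem_iSup.2 ⟨a, ha⟩) s hag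
    refine ⟨f, funext fun a => ?_⟩
    simp only [d₀, LinearMap.pi_apply, AlgHom.toLinearMap_apply, pullFn_openPt]
    exact hf a
  · rintro ⟨f, rfl⟩
    funext k
    simp only [d₁, d₀, LinearMap.pi_apply, LinearMap.sub_apply, LinearMap.comp_apply, LinearMap.proj_apply,
      AlgHom.toLinearMap_apply, Pi.zero_apply, sub_eq_zero]
    rw [← pullFn_ptMap, ← pullFn_ptMap, ptMap_resAlg, ptMap_resAlg]

variable {Q : Type u} [AddCommGroup Q] [Module R Q] [Module.Flat R Q]

include cv in
/-- A function with values in a flat module is determined by its values at points. -/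
theorem ext_points {w w' : Fn G ⊗[R] Q}
    (h : ∀ (a : cv.J), VecGrp.Wmap (pullFn (openPt (cv.affine a))) w =
      VecGrp.Wmap (pullFn (openPt (cv.affine a))) w') : w = w' := by
  classical
  haveI := cv.finite
  haveI : Fintype cv.J := Fintype.ofFinite _
  apply Module.Flat.rTensor_preserves_injective_linearMap (M := Q) (d₀ cv) (d₀_injective cv)
  apply (TensorProduct.piLeft R Q (fun a => Γ(G.left, cv.U a))).injective
  have key : ∀ v : Fn G ⊗[R] Q, ∀ a, TensorProduct.piLeft R Q (fun a => Γ(G.left, cv.U a)) ((d₀ cv).rTensor Q v) a =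
      VecGrp.Wmap (pullFn (openPt (cv.affine a))) v := fun v a => by
    induction v using TensorProduct.induction_on with
    | zero => simp
    | add p q hp hq => simp only [map_add, Pi.add_apply, hp, hq]
    | tmul f q => simp [d₀]
  funext a
  rw [key, key, h a]

include cv in
/-- A natural family of values in a flat module is a function. -/
theorem exists_fn [Flat G.hom] (Z : ∀ (B : Type u) [CommRing B] [Algebra R B], (VecGrp.pt R B ⟶ G) → B ⊗[R] Q)
    (hZ : ∀ {B B' : Type u} [CommRing B] [Algebra R B] [CommRing B'] [Algebra R B'] (φ : B →ₐ[R] B')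
      (g : VecGrp.pt R B ⟶ G), VecGrp.Wmap φ (Z B g) = Z B' (VecGrp.ptMap φ ≫ g)) :
    ∃ w : Fn G ⊗[R] Q, ∀ (B : Type u) [CommRing B] [Algebra R B] (g : VecGrp.pt R B ⟶ G),
      VecGrp.Wmap (pullFn g) w = Z B g := by
  classical
  haveI := cv.finite
  haveI := cv.finiteK
  haveI : Fintype cv.J := Fintype.ofFinite _
  haveI : Fintype cv.K := Fintype.ofFinite _
  let eJ := TensorProduct.piLeft R Q (fun a => Γ(G.left, cv.U a))
  let eK := TensorProduct.piLeft R Q (fun k => Γ(G.left, cv.V k))
  let s : (∀ a, Γ(G.left, cv.U a)) ⊗[R] Q := eJ.symm fun a => Z _ (openPt (cv.affine a))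
  have hs : (d₁ cv).rTensor Q s = 0 := by
    apply eK.injective
    rw [map_zero]
    funext k
    have key : ∀ v : (∀ a, Γ(G.left, cv.U a)) ⊗[R] Q, eK ((d₁ cv).rTensor Q v) k =
        VecGrp.Wmap (resAlg (cv.affine (cv.fst k)) (cv.affineV k) (cv.le_fst k)) (eJ v (cv.fst k)) -
        VecGrp.Wmap (resAlg (cv.affine (cv.snd k)) (cv.affineV k) (cv.le_snd k)) (eJ v (cv.snd k)) := fun v => by
      induction v using TensorProduct.induction_on with
      | zero => simp
      | add p q hp hq => simp only [map_add, Pi.add_apply, hp, hq]; abel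
      | tmul f q => simp [eJ, eK, d₁, TensorProduct.sub_tmul]
    rw [key, LinearEquiv.apply_symm_apply, hZ, hZ, ptMap_resAlg, ptMap_resAlg, sub_self, Pi.zero_apply]
  obtain ⟨w, hw⟩ := (Module.Flat.rTensor_exact Q (exact_d₀_d₁ cv) s).1 hs
  refine ⟨w, fun B _ _ g => ?_⟩
  have key : ∀ v : Fn G ⊗[R] Q, ∀ a, eJ ((d₀ cv).rTensor Q v) a =
      VecGrp.Wmap (pullFn (openPt (cv.affine a))) v := fun v a => by
    induction v using TensorProduct.induction_on with
    | zero => simp
    | add p q hp hq => simp only [map_add, Pi.add_apply, hp, hq]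
    | tmul f q => simp [eJ, d₀]
  have hloc : ∀ a : cv.J, VecGrp.Wmap (pullFn (openPt (cv.affine a))) w = Z _ (openPt (cv.affine a)) := fun a => by
    rw [← key, hw, LinearEquiv.apply_symm_apply]
  have comp : ∀ {B C : Type u} [CommRing B] [Algebra R B] [CommRing C] [Algebra R C] (φ : B →ₐ[R] C)
      (h : VecGrp.pt R B ⟶ G), VecGrp.Wmap φ (VecGrp.Wmap (pullFn h) w) =
        VecGrp.Wmap (pullFn (VecGrp.ptMap φ ≫ h)) w := by
    intro B C _ _ _ _ φ h
    clear hw hloc
    induction w using TensorProduct.induction_on with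
    | zero => simp
    | add p q hp hq => simp only [map_add, hp, hq]
    | tmul f q => simp only [VecGrp.Wmap_tmul, pullFn_ptMap]
  rw [← sub_eq_zero]
  refine eq_zero_of_charts cv.charts g _ fun C _ _ φ a ψ hψ => ?_
  rw [map_sub, comp, hZ, hψ, ← comp, ← hZ, sub_eq_zero]
  exact congrArg (VecGrp.Wmap ψ) (hloc a)

end Groth.Agent.GModStable
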