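import Groth.Agent.GModStable.Functions

/-! Stable finitely generated submodules when the functions of the group are projective
(SGA 3 VI_B 11.10.1). -/

set_option autoImplicit false
set_option linter.style.haveILetI false
universe u

open CategoryTheory Limits MonoidalCategory CartesianMonoidalCategory MonObj GrpObj AlgebraicGeometry
open scoped TensorProduct

namespace Groth.Agent.GModStable

variable {R : Type u} [CommRing R]

/-- The coefficient of a tensor along a linear form. -/
noncomputable def coeff {A Q : Type u} [AddCommGroup A] [Module R A] [AddCommGroup Q] [Module R Q]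
    (φ : A →ₗ[R] R) : A ⊗[R] Q →ₗ[R] Q := (TensorProduct.lid R Q).toLinearMap ∘ₗ φ.rTensor Q

theorem coeff_tmul {A Q : Type u} [AddCommGroup A] [Module R A] [AddCommGroup Q] [Module R Q]
    (φ : A →ₗ[R] R) (a : A) (q : Q) : coeff φ (a ⊗ₜ[R] q) = φ a • q := by simp [coeff]

theorem coeff_lTensor {A Q Q' : Type u} [AddCommGroup A] [Module R A] [AddCommGroup Q] [Module R Q]
    [AddCommGroup Q'] [Module R Q'] (φ : A →ₗ[R] R) (L : Q →ₗ[R] Q') (w : A ⊗[R] Q) :
    coeff φ (L.lTensor A w) = L (coeff φ w) := by
  induction w using TensorProduct.induction_on with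
  | zero => simp
  | add p q hp hq => simp only [map_add, hp, hq]
  | tmul a q => rw [LinearMap.lTensor_tmul, coeff_tmul, coeff_tmul, map_smul]

/-- A tensor with a projective module is recovered from finitely many coefficients. -/
theorem exists_coeff_finset {A Q : Type u} [AddCommGroup A] [Module R A] [AddCommGroup Q] [Module R Q]
    (σ : A →ₗ[R] A →₀ R) (hσ : Function.LeftInverse (Finsupp.linearCombination R id) σ)
    (w : A ⊗[R] Q) : ∃ S : Finset A, ∀ S' : Finset A, S ⊆ S' →
      w = ∑ i ∈ S', i ⊗ₜ[R] coeff (Finsupp.lapply i ∘ₗ σ) w := by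
  classical
  induction w using TensorProduct.induction_on with
  | zero => exact ⟨∅, fun S' _ => by simp⟩
  | tmul a q =>
    refine ⟨(σ a).support, fun S' hS' => ?_⟩
    conv_lhs => rw [← hσ a, Finsupp.linearCombination_apply, Finsupp.sum_of_support_subset _ hS' _ (by simp),
      TensorProduct.sum_tmul]
    refine Finset.sum_congr rfl fun i _ => ?_
    simp [coeff_tmul, TensorProduct.smul_tmul]
  | add p q hp hq =>
    obtain ⟨P, hP⟩ := hp
    obtain ⟨Q, hQ⟩ := hq
    refine ⟨P ∪ Q, fun S' hS' => ?_⟩
    simp only [map_add, TensorProduct.tmul_add, Finset.sum_add_distrib]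
    rw [← hP S' (Finset.union_subset_left hS'), ← hQ S' (Finset.union_subset_right hS')]

variable {G : Over (Spec (CommRingCat.of R))} [GrpObj G] [Flat G.hom] [QuasiCompact G.hom]
  [QuasiSeparated G.hom] {E : Type u} [AddCommGroup E] [Module R E] [Module.Flat R E]
  (m : VecGrp.GMod G E)

/-- The pullback of a function along left translation by a point, as a natural family. -/
noncomputable def translFamily {B₀ : Type u} [CommRing B₀] [Algebra R B₀] (u : VecGrp.pt R B₀ ⟶ G) (f : Fn G)
    (B : Type u) [CommRing B] [Algebra R B] (g : VecGrp.pt R B ⟶ G) : B ⊗[R] B₀ :=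
  pullFn ((VecGrp.ptMap (Algebra.TensorProduct.includeRight (R := R) (A := B) (B := B₀)) ≫ u) *
    (VecGrp.ptMap (Algebra.TensorProduct.includeLeft (R := R) (S := R) (A := B) (B := B₀)) ≫ g)) f

theorem ptMap_comp {A B C : Type u} [CommRing A] [Algebra R A] [CommRing B] [Algebra R B] [CommRing C]
    [Algebra R C] (φ : A →ₐ[R] B) (ψ : B →ₐ[R] C) :
    VecGrp.ptMap ψ ≫ VecGrp.ptMap φ = VecGrp.ptMap (ψ.comp φ) := by
  apply Over.OverMorphism.ext
  simp only [Over.comp_left, VecGrp.ptMap_left, ← Spec.map_comp]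
  rfl

theorem translFamily_natural {B₀ : Type u} [CommRing B₀] [Algebra R B₀] (u : VecGrp.pt R B₀ ⟶ G) (f : Fn G)
    {B B' : Type u} [CommRing B] [Algebra R B] [CommRing B'] [Algebra R B'] (φ : B →ₐ[R] B')
    (g : VecGrp.pt R B ⟶ G) :
    VecGrp.Wmap φ (translFamily u f B g) = translFamily u f B' (VecGrp.ptMap φ ≫ g) := by
  let Φ : B ⊗[R] B₀ →ₐ[R] B' ⊗[R] B₀ := Algebra.TensorProduct.map φ (AlgHom.id R B₀)
  have e : ∀ z, VecGrp.Wmap φ z = Φ z := fun z => by
    induction z using TensorProduct.induction_on with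
    | zero => simp
    | add p q hp hq => simp only [map_add, hp, hq]
    | tmul b c => simp [Φ]
  rw [e, translFamily, translFamily, ← pullFn_ptMap, MonObj.comp_mul]
  have e1 : Φ.comp Algebra.TensorProduct.includeRight = Algebra.TensorProduct.includeRight := by
    ext c; simp [Φ]
  have e2 : Φ.comp Algebra.TensorProduct.includeLeft = Algebra.TensorProduct.includeLeft.comp φ := by
    ext c; simp [Φ]
  simp only [← Category.assoc, ptMap_comp, e1, e2]

/-- The product of two points acting on `1 ⊗ x`, in the two-step form. -/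
theorem assoc_symm_lTensor_act₁ {B B₀ : Type u} [CommRing B] [Algebra R B] [CommRing B₀] [Algebra R B₀]
    (u : VecGrp.pt R B₀ ⟶ G) (w : B ⊗[R] E) :
    (TensorProduct.assoc R B B₀ E).symm ((act₁ m u).lTensor B w) =
      m.ρ (B ⊗[R] B₀) (VecGrp.ptMap (Algebra.TensorProduct.includeRight (R := R) (A := B) (B := B₀)) ≫ u)
        (VecGrp.Wmap (Algebra.TensorProduct.includeLeft (R := R) (S := R) (A := B) (B := B₀)) w) := by
  induction w using TensorProduct.induction_on with
  | zero => simp
  | add p q hp hq => simp only [map_add, hp, hq]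
  | tmul c y =>
    let iB : B →ₐ[R] B ⊗[R] B₀ := Algebra.TensorProduct.includeLeft
    let iA : B₀ →ₐ[R] B ⊗[R] B₀ := Algebra.TensorProduct.includeRight
    have e1 : ∀ v : B₀ ⊗[R] E, (TensorProduct.assoc R B B₀ E).symm (c ⊗ₜ[R] v) = iB c • VecGrp.Wmap iA v := by
      intro v
      induction v using TensorProduct.induction_on with
      | zero => simp
      | add p q hp hq => simp only [TensorProduct.tmul_add, map_add, smul_add, hp, hq]
      | tmul d e =>
        rw [TensorProduct.assoc_symm_tmul, VecGrp.Wmap_tmul, TensorProduct.smul_tmul', smul_eq_mul]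
        simp [iA, iB, Algebra.TensorProduct.tmul_mul_tmul]
    rw [LinearMap.lTensor_tmul, e1, Wmap_act₁, act₁_apply, ← LinearEquiv.map_smul, TensorProduct.smul_tmul',
      smul_eq_mul, _root_.mul_one, VecGrp.Wmap_tmul]

theorem exists_stable_of_projective (hA : Module.Projective R (Fn G)) (M : Submodule R E) (hM : M.FG) :
    ∃ N : Submodule R E, M ≤ N ∧ N.FG ∧
      ∀ (B : Type u) [CommRing B] [Algebra R B] (g : VecGrp.pt R B ⟶ G) (x : E), x ∈ N →
        m.ρ B g ((1 : B) ⊗ₜ[R] x) ∈ LinearMap.range (N.subtype.baseChange B) := by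
  classical
  obtain ⟨cv⟩ := exists_cover G
  obtain ⟨σ, hσ⟩ := Module.projective_def'.1 hA
  have hσ' : Function.LeftInverse (Finsupp.linearCombination R id) σ := LinearMap.congr_fun hσ
  obtain ⟨s, rfl⟩ := hM
  choose δ hδ using fun x : E => exists_fn (Q := E) cv (fun B _ _ g => act₁ m g x) (fun φ g => Wmap_act₁ m φ g x)
  choose S hS using fun x : E => exists_coeff_finset σ hσ' (δ x)
  let T : Finset (Fn G) := s.biUnion S
  let φ : Fn G → (Fn G →ₗ[R] R) := fun i => Finsupp.lapply i ∘ₗ σ
  let N : Submodule R E := Submodule.span R ↑((s ×ˢ T).image fun p => coeff (φ p.2) (δ p.1))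
  have hc : ∀ x ∈ s, ∀ i ∈ T, coeff (φ i) (δ x) ∈ N := fun x hx i hi =>
    Submodule.subset_span (Finset.mem_coe.2 (Finset.mem_image.2 ⟨(x, i), Finset.mem_product.2 ⟨hx, hi⟩, rfl⟩))
  have hdec : ∀ x ∈ s, δ x = ∑ i ∈ T, i ⊗ₜ[R] coeff (φ i) (δ x) := fun x hx =>
    hS x T (Finset.subset_biUnion_of_mem S hx)
  refine ⟨N, ?_, Submodule.fg_span (Finset.finite_toSet _), fun B _ _ g x hx => ?_⟩
  · rw [Submodule.span_le]
    intro x hx
    have h1 := hδ x R (1 : VecGrp.pt R R ⟶ G)
    simp only [act₁_apply, map_one] at h1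
    rw [hdec x hx, map_sum] at h1
    simp only [VecGrp.Wmap_tmul] at h1
    have h2 := congrArg (TensorProduct.lid R E) h1
    simp only [map_sum, TensorProduct.lid_tmul] at h2
    have h3 : x = ∑ i ∈ T, pullFn (1 : VecGrp.pt R R ⟶ G) i • coeff (φ i) (δ x) := by
      rw [h2]
      exact (one_smul R x).symm
    exact h3 ▸ Submodule.sum_mem _ fun i hi => Submodule.smul_mem _ _ (hc x hx i hi)
  rw [← baseChange_eq_zero_iff_mem_range]
  refine baseChange_act₁_eq_zero cv.charts m N.mkQ x (fun (b : cv.J) => ?_) g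
  let B₀ := Γ(G.left, cv.U b)
  let u := openPt (cv.affine b)
  haveI : Module.Flat R B₀ := flat_algOpen (cv.affine b)
  show N.mkQ.baseChange B₀ (act₁ m u x) = 0
  induction hx using Submodule.span_induction with
  | mem n hn =>
    obtain ⟨⟨x, i⟩, hp, rfl⟩ := Finset.mem_image.1 (Finset.mem_coe.1 hn)
    obtain ⟨hx, hi⟩ := Finset.mem_product.1 hp
    dsimp only
    choose Δ hΔ using fun f : Fn G => exists_fn (Q := B₀) cv (translFamily u f) (translFamily_natural u f)
    let w' : Fn G ⊗[R] (B₀ ⊗[R] E) :=
      ∑ j ∈ T, TensorProduct.assoc R (Fn G) B₀ E (Δ j ⊗ₜ[R] coeff (φ j) (δ x))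
    have heq : (act₁ m u).lTensor (Fn G) (δ x) = w' := by
      refine ext_points cv fun a => ?_
      let B := Γ(G.left, cv.U a)
      let v := openPt (cv.affine a)
      let p := pullFn v
      have c1 : ∀ w : Fn G ⊗[R] E, VecGrp.Wmap p ((act₁ m u).lTensor (Fn G) w) =
          (act₁ m u).lTensor B (VecGrp.Wmap p w) := fun w => by
        induction w using TensorProduct.induction_on with
        | zero => simp
        | add p q hp hq => simp only [map_add, hp, hq]
        | tmul f q => simp
      have c2 : ∀ (z : Fn G ⊗[R] B₀) (n : E),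
          (TensorProduct.assoc R B B₀ E).symm (VecGrp.Wmap p (TensorProduct.assoc R (Fn G) B₀ E (z ⊗ₜ[R] n))) =
            VecGrp.Wmap p z ⊗ₜ[R] n := fun z n => by
        induction z using TensorProduct.induction_on with
        | zero => simp
        | add p q hp hq => simp only [TensorProduct.add_tmul, map_add, hp, hq]
        | tmul f q => simp
      refine (TensorProduct.assoc R B B₀ E).symm.injective ?_
      rw [show w' = _ from rfl, map_sum, map_sum, c1, assoc_symm_lTensor_act₁, hδ, Wmap_act₁]
      simp only [p, v, B] at c2 ⊢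
      simp only [c2, hΔ, translFamily]
      rw [act₁_apply]
      have hprod : m.ρ (B ⊗[R] B₀)
          (VecGrp.ptMap (Algebra.TensorProduct.includeRight (R := R) (A := B) (B := B₀)) ≫ u)
          (m.ρ (B ⊗[R] B₀) (VecGrp.ptMap (Algebra.TensorProduct.includeLeft (R := R) (S := R) (A := B) (B := B₀)) ≫ v)
            ((1 : B ⊗[R] B₀) ⊗ₜ[R] x)) =
          act₁ m ((VecGrp.ptMap (Algebra.TensorProduct.includeRight (R := R) (A := B) (B := B₀)) ≫ u) *
            (VecGrp.ptMap (Algebra.TensorProduct.includeLeft (R := R) (S := R) (A := B) (B := B₀)) ≫ v)) x := by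
        rw [act₁_apply, map_mul]; rfl
      rw [hprod, ← hδ, hdec x hx, map_sum]
      refine Finset.sum_congr rfl fun j hj => ?_
      rw [VecGrp.Wmap_tmul, ← hdec x hx]
    have hkill : ((N.mkQ.baseChange B₀).restrictScalars R).lTensor (Fn G) w' = 0 := by
      rw [show w' = _ from rfl, map_sum]
      refine Finset.sum_eq_zero fun j hj => ?_
      generalize hn' : coeff (φ j) (δ x) = n
      have hn'' : N.mkQ n = 0 := (Submodule.Quotient.mk_eq_zero N).2 (hn' ▸ hc x hx j hj)
      induction Δ j using TensorProduct.induction_on with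
      | zero => simp
      | add p q hp hq => simp only [TensorProduct.add_tmul, map_add, hp, hq, add_zero]
      | tmul f q =>
        rw [TensorProduct.assoc_tmul, LinearMap.lTensor_tmul, LinearMap.restrictScalars_apply,
          LinearMap.baseChange_tmul, hn'', TensorProduct.tmul_zero, TensorProduct.tmul_zero]
    have h := congrArg (coeff (φ i)) hkill
    rw [map_zero, coeff_lTensor, ← heq, coeff_lTensor] at h
    exact h
  | zero => rw [map_zero, map_zero]
  | add p q _ _ hp hq => rw [map_add, map_add, hp, hq, add_zero]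
  | smul c p _ hp => rw [map_smul, LinearMap.map_smul_of_tower, hp, smul_zero]

end Groth.Agent.GModStable
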